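import Cfsg.Agent.H598.NoZero

/-!
# Galois conjugates of sums of character values (helper296, for S4932)

* `exists_conj` : if `∑ χ ∈ F, χ g ≠ 0` then `1 ≤ ‖∑ χ ∈ F, χ (g ^ k)‖` for some `k` prime to `|G|`;
* `card_ne_zero_le` : at most `|C_G(g)|` irreducible characters do not vanish at `g`;
* `sum_norm_le` : `∑ χ ∈ F, ‖χ g‖ ≤ |C_G(g)|`;
* `centralizer_pow` : `C_G(g ^ k) = C_G(g)` for `k` prime to `|G|`.
-/

set_option autoImplicit false
set_option linter.unusedSectionVars false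

namespace Cfsg.Agent.H296.BD

open Cfsg Cfsg.Agent.Characters Cfsg.Agent.H686.CharKit Cfsg.Agent.H598.NoZero
open scoped ComplexConjugate

universe u

variable {G : Type u} [Group G] [Finite G]

/-- the centralizer of a power prime to the order -/
theorem centralizer_pow (g : G) {k : ℕ} (hk : k.Coprime (Nat.card G)) :
    Subgroup.centralizer ({g ^ k} : Set G) = Subgroup.centralizer ({g} : Set G) := by
  ext x
  rw [Subgroup.mem_centralizer_singleton_iff, Subgroup.mem_centralizer_singleton_iff]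
  constructor
  · intro hx
    have h1 : Commute x (g ^ k) := hx
    obtain ⟨m, hm⟩ := exists_pow_eq_self_of_coprime (hk.coprime_dvd_right (orderOf_dvd_natCard g))
    have h2 := h1.pow_right m
    rwa [hm] at h2
  · intro hx
    have h1 : Commute x g := hx
    exact h1.pow_right _

/-- **A conjugate of absolute value at least one.** -/
theorem exists_conj (F : Finset (IrrCharacter G)) {g : G} (hg : ∑ χ ∈ F, (χ : G → ℂ) g ≠ 0) :
    ∃ k : ℕ, k.Coprime (Nat.card G) ∧ 1 ≤ ‖∑ χ ∈ F, (χ : G → ℂ) (g ^ k)‖ := by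
  classical
  have : NeZero (Nat.card G) := ⟨Nat.card_pos.ne'⟩
  set f : G → ℂ := fun x => ∑ χ ∈ F, (χ : G → ℂ) x with hf
  have hσf : ∀ (σ : ℂ ≃+* ℂ) (k : ℕ), (∀ ψ : G → ℂ, IsCharacter G ψ → ∀ x, σ (ψ x) = ψ (x ^ k)) →
      ∀ x, σ (f x) = f (x ^ k) := by
    intro σ k hσ x
    rw [hf]
    simp only [map_sum]
    exact Finset.sum_congr rfl fun χ _ => hσ _ (Core.isIrr_isCharacter χ.2) x
  set P : ℂ := ∏ m : (ZMod (Nat.card G))ˣ, f (g ^ (m : ZMod (Nat.card G)).val) with hP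
  have hne : ∀ m : (ZMod (Nat.card G))ˣ, f (g ^ (m : ZMod (Nat.card G)).val) ≠ 0 := by
    intro m
    obtain ⟨σ, hσ⟩ := GaloisBasic.exists_ringEquiv_of_coprime (G := G)
      (m := (m : ZMod (Nat.card G)).val) (ZMod.val_coe_unit_coprime m)
    rw [← hσf σ _ hσ g]
    intro h
    exact hg (by simpa using h)
  have hP0 : P ≠ 0 := Finset.prod_ne_zero_iff.mpr fun m _ => hne m
  have hPint : IsIntegral ℤ P :=
    IsIntegral.prod _ fun m _ => IsIntegral.sum _ fun χ _ => GaloisBasic.isIntegral_apply (Core.isIrr_isCharacter χ.2) _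
  have hfix : ∀ σ : ℂ ≃+* ℂ, σ P = P := by
    intro σ
    obtain ⟨k, hk, hσ⟩ := GaloisBasic.exists_pow_of_ringEquiv (G := G) σ
    rw [hP, map_prod]
    conv_rhs => rw [← Equiv.prod_comp (Equiv.mulRight (ZMod.unitOfCoprime k hk))]
    refine Finset.prod_congr rfl fun m _ => ?_
    rw [hσf σ k hσ]
    rw [Equiv.coe_mulRight, ← pow_unit_mul g pow_card_eq_one' m k hk, ← pow_mul, ← pow_mul,
      mul_comm]
  obtain ⟨q, hq⟩ := GaloisBasic.exists_rat_of_forall_ringEquiv hPint.tower_top hfix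
  obtain ⟨k, hk⟩ := GaloisBasic.exists_int_of_isIntegral hPint ⟨q, hq⟩
  have hk0 : k ≠ 0 := by
    rintro rfl
    exact hP0 (by rw [hk]; simp)
  have hPnorm : 1 ≤ ‖P‖ := by
    rw [hk, Complex.norm_intCast]
    have : (1 : ℤ) ≤ |k| := Int.one_le_abs hk0
    exact_mod_cast this
  by_contra hcon
  push Not at hcon
  have h1 : ∀ m : (ZMod (Nat.card G))ˣ, ‖f (g ^ (m : ZMod (Nat.card G)).val)‖ < 1 := fun m =>
    hcon _ (ZMod.val_coe_unit_coprime m)
  rw [hP, norm_prod] at hPnorm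
  have h2 : ∏ m : (ZMod (Nat.card G))ˣ, ‖f (g ^ (m : ZMod (Nat.card G)).val)‖ < 1 := by
    obtain ⟨m0⟩ : Nonempty (ZMod (Nat.card G))ˣ := ⟨1⟩
    rw [← Finset.mul_prod_erase _ _ (Finset.mem_univ m0)]
    refine mul_lt_one_of_nonneg_of_lt_one_left (norm_nonneg _) (h1 m0) ?_
    exact Finset.prod_le_one (fun _ _ => norm_nonneg _) fun m _ => (h1 m).le
  exact absurd hPnorm (not_le.2 h2)

/-- **At most `|C_G(g)|` irreducible characters do not vanish at `g`.** -/
theorem card_ne_zero_le (g : G) :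
    Nat.card {χ : IrrCharacter G // (χ : G → ℂ) g ≠ 0} ≤ Nat.card (Subgroup.centralizer ({g} : Set G)) := by
  classical
  have : Finite (IrrCharacter G) := Core.finite_irr
  have : Fintype (IrrCharacter G) := Fintype.ofFinite _
  have : NeZero (Nat.card G) := ⟨Nat.card_pos.ne'⟩
  have h1 : (Fintype.card (ZMod (Nat.card G))ˣ : ℝ) * Nat.card {χ : IrrCharacter G // (χ : G → ℂ) g ≠ 0}
      ≤ (Fintype.card (ZMod (Nat.card G))ˣ : ℝ)
        * Nat.card (Subgroup.centralizer ({g} : Set G)) := by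
    calc (Fintype.card (ZMod (Nat.card G))ˣ : ℝ) * Nat.card {χ : IrrCharacter G // (χ : G → ℂ) g ≠ 0}
        = ∑ _χ ∈ Finset.univ.filter (fun χ : IrrCharacter G => (χ : G → ℂ) g ≠ 0),
            (Fintype.card (ZMod (Nat.card G))ˣ : ℝ) := by
          rw [Finset.sum_const, nsmul_eq_mul, mul_comm, Nat.card_eq_fintype_card, Fintype.card_subtype]
      _ ≤ ∑ χ ∈ Finset.univ.filter (fun χ : IrrCharacter G => (χ : G → ℂ) g ≠ 0), ∑ m : (ZMod (Nat.card G))ˣ,
          Complex.normSq ((χ : G → ℂ) (g ^ (m : ZMod (Nat.card G)).val)) :=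
          Finset.sum_le_sum fun χ hχ => le_sum_norm_sq χ (Finset.mem_filter.1 hχ).2
      _ ≤ ∑ χ : IrrCharacter G, ∑ m : (ZMod (Nat.card G))ˣ,
          Complex.normSq ((χ : G → ℂ) (g ^ (m : ZMod (Nat.card G)).val)) :=
          Finset.sum_le_sum_of_subset_of_nonneg (Finset.filter_subset _ _) fun χ _ _ =>
            Finset.sum_nonneg fun m _ => Complex.normSq_nonneg _
      _ = ∑ m : (ZMod (Nat.card G))ˣ, ∑ χ : IrrCharacter G,
          Complex.normSq ((χ : G → ℂ) (g ^ (m : ZMod (Nat.card G)).val)) := Finset.sum_comm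
      _ = ∑ _m : (ZMod (Nat.card G))ˣ, (Nat.card (Subgroup.centralizer ({g} : Set G)) : ℝ) := by
          refine Finset.sum_congr rfl fun m _ => ?_
          rw [sum_normSq, centralizer_pow g (ZMod.val_coe_unit_coprime m)]
      _ = _ := by
          rw [Finset.sum_const, Finset.card_univ, nsmul_eq_mul]
  have h2 : (0 : ℝ) < Fintype.card (ZMod (Nat.card G))ˣ := by
    exact_mod_cast Fintype.card_pos
  exact_mod_cast le_of_mul_le_mul_left h1 h2

/-- **The sum of the absolute values.** -/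
theorem sum_norm_le (F : Finset (IrrCharacter G)) (g : G) :
    ∑ χ ∈ F, ‖(χ : G → ℂ) g‖ ≤ Nat.card (Subgroup.centralizer ({g} : Set G)) := by
  classical
  have : Finite (IrrCharacter G) := Core.finite_irr
  have : Fintype (IrrCharacter G) := Fintype.ofFinite _
  set E : Finset (IrrCharacter G) := Finset.univ.filter (fun χ : IrrCharacter G => (χ : G → ℂ) g ≠ 0) with hE
  set c : ℝ := ((Nat.card (Subgroup.centralizer ({g} : Set G)) : ℕ) : ℝ) with hc
  have h1 : ∑ χ ∈ F, ‖(χ : G → ℂ) g‖ ≤ ∑ χ ∈ E, ‖(χ : G → ℂ) g‖ := by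
    calc ∑ χ ∈ F, ‖(χ : G → ℂ) g‖ ≤ ∑ χ : IrrCharacter G, ‖(χ : G → ℂ) g‖ :=
          Finset.sum_le_sum_of_subset_of_nonneg (Finset.subset_univ _) fun _ _ _ => norm_nonneg _
      _ = ∑ χ ∈ E, ‖(χ : G → ℂ) g‖ := by
          rw [hE]
          refine (Finset.sum_filter_of_ne fun χ _ h => ?_).symm
          exact norm_ne_zero_iff.1 h
  have h2 : (E.card : ℝ) ≤ c := by
    have := card_ne_zero_le g
    rw [Nat.card_eq_fintype_card, Fintype.card_subtype] at this
    exact Nat.cast_le.2 this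
  have h3 : ∑ χ ∈ E, ‖(χ : G → ℂ) g‖ ^ 2 ≤ c := by
    calc ∑ χ ∈ E, ‖(χ : G → ℂ) g‖ ^ 2 ≤ ∑ χ : IrrCharacter G, ‖(χ : G → ℂ) g‖ ^ 2 :=
          Finset.sum_le_sum_of_subset_of_nonneg (Finset.subset_univ _) fun _ _ _ => by positivity
      _ = c := by
          rw [hc, ← sum_normSq]
          exact Finset.sum_congr rfl fun χ _ => (Complex.normSq_eq_norm_sq _).symm
  have h4 : (∑ χ ∈ E, ‖(χ : G → ℂ) g‖) ^ 2 ≤ (E.card : ℝ) * ∑ χ ∈ E, ‖(χ : G → ℂ) g‖ ^ 2 :=
    sq_sum_le_card_mul_sum_sq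
  have hc0 : 0 ≤ c := by positivity
  have h5 : (∑ χ ∈ E, ‖(χ : G → ℂ) g‖) ^ 2 ≤ c ^ 2 := by
    refine h4.trans ?_
    rw [pow_two]
    exact mul_le_mul h2 h3 (Finset.sum_nonneg fun _ _ => by positivity) hc0
  exact h1.trans ((pow_le_pow_iff_left₀ (Finset.sum_nonneg fun _ _ => norm_nonneg _) hc0 two_ne_zero).1 h5)

end Cfsg.Agent.H296.BD
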